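import Mathlib
import Cfsg.Agent.Lib.FiTool.Chain
import Cfsg.Agent.Lib.FiTool.F24

/-! the transpositions commuting with a product of four commuting transpositions (generated data) -/

set_option autoImplicit false
set_option maxRecDepth 100000
set_option Elab.async false

namespace CfsgLib.Fi24T

open Cfsg CfsgLib.Comput CfsgLib.Fischer CfsgLib.ThreeTrans CfsgLib.FiTool

variable {G : Type*} [Group G] {D : Set G} {g pt : ℕ → G}

/-- fixed points -/
def zfF : List ℕ := [nat_lit 6, nat_lit 7, nat_lit 22, nat_lit 23, nat_lit 38, nat_lit 39, nat_lit 54, nat_lit 55, nat_lit 1160, nat_lit 1161, nat_lit 1176, nat_lit 1177, nat_lit 1192, nat_lit 1193, nat_lit 1208, nat_lit 1209, nat_lit 1416, nat_lit 1417, nat_lit 1432, nat_lit 1433, nat_lit 1448, nat_lit 1449, nat_lit 1464, nat_lit 1465, nat_lit 3400, nat_lit 3401, nat_lit 3416, nat_lit 3417, nat_lit 3432, nat_lit 3433, nat_lit 3448, nat_lit 3449, nat_lit 3464, nat_lit 3465, nat_lit 3480, nat_lit 3481, nat_lit 3496, nat_lit 3497, nat_lit 3512, nat_lit 3513, nat_lit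 5386, nat_lit 5387, nat_lit 5402, nat_lit 5403, nat_lit 5418, nat_lit 5419, nat_lit 5434, nat_lit 5435, nat_lit 14028, nat_lit 14029, nat_lit 14044, nat_lit 14045, nat_lit 14060, nat_lit 14061, nat_lit 14076, nat_lit 14077, nat_lit 156675, nat_lit 156683, nat_lit 156691, nat_lit 156699, nat_lit 156964, nat_lit 156972, nat_lit 156980, nat_lit 156988, nat_lit 156996, nat_lit 157004, nat_lit 157012, nat_lit 157020, nat_lit 157028, nat_lit 157036, nat_lit 157044, nat_lit 157052, nat_lit 157156, nat_lit 157164, nat_lit 157172, nat_lit 157180, nat_lit 158469, nat_lit 158477, nat_lit 158485, nat_lit 158493, nat_lit 158884, nat_lit 158892, nat_lit 158900, nat_lit 158908, nat_lit 174279, nat_lit 174287, nat_lit 174295, nat_lit 174303, nat_lit 174887, nat_lit 174895, nat_lit 174903, nat_lit 174911, nat_lit 174951, nat_lit 174959, nat_lit 174967, nat_lit 174975, nat_lit 175047, nat_lit 175055, nat_lit 175063, nat_lit 175071, nat_lit 175109, nat_lit 175117, nat_lit 175125, nat_lit 175133, nat_lit 175143, nat_lit 175151,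 nat_lit 175159, nat_lit 175167, nat_lit 175239, nat_lit 175247, nat_lit 175255, nat_lit 175263, nat_lit 175399, nat_lit 175407, nat_lit 175415, nat_lit 175423, nat_lit 175431, nat_lit 175439, nat_lit 175447, nat_lit 175455, nat_lit 175591, nat_lit 175599, nat_lit 175607, nat_lit 175615, nat_lit 175623, nat_lit 175631, nat_lit 175639, nat_lit 175647, nat_lit 175655, nat_lit 175663, nat_lit 175671, nat_lit 175679, nat_lit 175682, nat_lit 175683, nat_lit 175690, nat_lit 175691, nat_lit 175698, nat_lit 175699, nat_lit 175706, nat_lit 175707, nat_lit 194690, nat_lit 194691, nat_lit 194698, nat_lit 194699, nat_lit 194706, nat_lit 194707, nat_lit 194714, nat_lit 194715, nat_lit 215426, nat_lit 215427, nat_lit 215434, nat_lit 215435, nat_lit 215442, nat_lit 215443, nat_lit 215450, nat_lit 215451, nat_lit 215458, nat_lit 215459, nat_lit 215466, nat_lit 215467, nat_lit 215474, nat_lit 215475, nat_lit 215482, nat_lit 215483, nat_lit 232834, nat_lit 232835, nat_lit 232850, nat_lit 232851, nat_lit 233320, nat_lit 233321,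 nat_lit 233336, nat_lit 233337, nat_lit 233448, nat_lit 233449, nat_lit 233464, nat_lit 233465, nat_lit 234152, nat_lit 234153, nat_lit 234168, nat_lit 234169, nat_lit 234184, nat_lit 234185, nat_lit 234200, nat_lit 234201, nat_lit 235018, nat_lit 235019, nat_lit 235034, nat_lit 235035, nat_lit 237770, nat_lit 237771, nat_lit 237786, nat_lit 237787, nat_lit 251246, nat_lit 251247, nat_lit 251262, nat_lit 251263, nat_lit 251278, nat_lit 251279, nat_lit 251294, nat_lit 251295, nat_lit 251438, nat_lit 251439, nat_lit 251454, nat_lit 251455, nat_lit 251470, nat_lit 251471, nat_lit 251486, nat_lit 251487, nat_lit 251534, nat_lit 251535, nat_lit 251550, nat_lit 251551, nat_lit 251598, nat_lit 251599, nat_lit 251614, nat_lit 251615, nat_lit 251694, nat_lit 251695, nat_lit 251710, nat_lit 251711, nat_lit 251726, nat_lit 251727, nat_lit 251742, nat_lit 251743, nat_lit 251758, nat_lit 251759, nat_lit 251774, nat_lit 251775, nat_lit 251782, nat_lit 251783, nat_lit 251788, nat_lit 251789, nat_lit 251798, nat_lit 251799,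 nat_lit 251804, nat_lit 251805, nat_lit 252198, nat_lit 252199, nat_lit 252214, nat_lit 252215, nat_lit 252712, nat_lit 252713, nat_lit 252728, nat_lit 252729, nat_lit 253000, nat_lit 253001, nat_lit 253016, nat_lit 253017, nat_lit 253288, nat_lit 253289, nat_lit 253304, nat_lit 253305, nat_lit 253352, nat_lit 253353, nat_lit 253368, nat_lit 253369, nat_lit 255114, nat_lit 255115, nat_lit 255130, nat_lit 255131, nat_lit 255146, nat_lit 255147, nat_lit 255162, nat_lit 255163, nat_lit 270798, nat_lit 270799, nat_lit 270814, nat_lit 270815, nat_lit 270830, nat_lit 270831, nat_lit 270846, nat_lit 270847, nat_lit 270862, nat_lit 270863, nat_lit 270878, nat_lit 270879, nat_lit 270958, nat_lit 270959, nat_lit 270974, nat_lit 270975, nat_lit 270990, nat_lit 270991, nat_lit 271006, nat_lit 271007, nat_lit 271046, nat_lit 271047, nat_lit 271062, nat_lit 271063, nat_lit 271086, nat_lit 271087, nat_lit 271102, nat_lit 271103, nat_lit 271110, nat_lit 271111, nat_lit 271126, nat_lit 271127, nat_lit 271150, nat_lit 271151,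 nat_lit 271166, nat_lit 271167, nat_lit 271174, nat_lit 271175, nat_lit 271178, nat_lit 271179, nat_lit 271190, nat_lit 271191, nat_lit 271194, nat_lit 271195, nat_lit 272177, nat_lit 272181, nat_lit 272185, nat_lit 272189, nat_lit 273777, nat_lit 273781, nat_lit 273785, nat_lit 273789, nat_lit 275376, nat_lit 275377, nat_lit 275380, nat_lit 275381, nat_lit 275384, nat_lit 275385, nat_lit 275388, nat_lit 275389, nat_lit 277393, nat_lit 277397, nat_lit 277401, nat_lit 277405, nat_lit 277506, nat_lit 277510, nat_lit 277514, nat_lit 277518, nat_lit 281761, nat_lit 281769, nat_lit 281793, nat_lit 281801, nat_lit 281924, nat_lit 281932, nat_lit 281940, nat_lit 281948, nat_lit 281956, nat_lit 281964, nat_lit 282004, nat_lit 282012, nat_lit 282437, nat_lit 282445, nat_lit 282484, nat_lit 282492, nat_lit 283392, nat_lit 283393, nat_lit 283400, nat_lit 283401, nat_lit 284994, nat_lit 284995, nat_lit 285002, nat_lit 285003, nat_lit 287250, nat_lit 287251, nat_lit 287258, nat_lit 287259, nat_lit 287266, nat_lit 287267,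 nat_lit 287274, nat_lit 287275, nat_lit 288643, nat_lit 288651, nat_lit 288659, nat_lit 288667, nat_lit 288820, nat_lit 288828, nat_lit 288836, nat_lit 288844, nat_lit 288852, nat_lit 288860, nat_lit 288900, nat_lit 288908, nat_lit 289269, nat_lit 289277, nat_lit 289285, nat_lit 289293, nat_lit 290242, nat_lit 290243, nat_lit 290250, nat_lit 290251, nat_lit 291858, nat_lit 291859, nat_lit 291866, nat_lit 291867, nat_lit 294066, nat_lit 294067, nat_lit 294074, nat_lit 294075, nat_lit 294194, nat_lit 294195, nat_lit 294202, nat_lit 294203, nat_lit 295522, nat_lit 295523, nat_lit 295554, nat_lit 295555, nat_lit 295752, nat_lit 295753, nat_lit 295864, nat_lit 295865, nat_lit 295944, nat_lit 295945, nat_lit 295960, nat_lit 295961, nat_lit 296442, nat_lit 296443, nat_lit 296458, nat_lit 296459, nat_lit 297782, nat_lit 297783, nat_lit 297788, nat_lit 297789, nat_lit 298166, nat_lit 298167, nat_lit 298170, nat_lit 298171, nat_lit 299048, nat_lit 299050, nat_lit 299052, nat_lit 299054, nat_lit 300192, nat_lit 300196,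 nat_lit 300208, nat_lit 300212, nat_lit 300497, nat_lit 300501, nat_lit 300784, nat_lit 300785, nat_lit 300788, nat_lit 300789, nat_lit 301225, nat_lit 301229, nat_lit 301241, nat_lit 301245, nat_lit 301929, nat_lit 301933, nat_lit 302217, nat_lit 302221, nat_lit 302249, nat_lit 302253, nat_lit 302504, nat_lit 302505, nat_lit 302508, nat_lit 302509, nat_lit 302945, nat_lit 302949, nat_lit 302953, nat_lit 302957, nat_lit 303649, nat_lit 303665, nat_lit 303705, nat_lit 303740, nat_lit 303748, nat_lit 303756, nat_lit 303796, nat_lit 303861, nat_lit 303869, nat_lit 303944, nat_lit 303945, nat_lit 304242, nat_lit 304243, nat_lit 304716, nat_lit 304717, nat_lit 304764, nat_lit 304765, nat_lit 305396, nat_lit 305398, nat_lit 305568, nat_lit 305570, nat_lit 305772, nat_lit 305774, nat_lit 305857, nat_lit 305859, nat_lit 306144, nat_lit 306152, nat_lit 306164, nat_lit 306241, nat_lit 306257, nat_lit 306261, nat_lit 306336, nat_lit 306337, nat_lit 306356, nat_lit 306357, nat_lit 306433, nat_lit 306509, nat_lit 306513,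 nat_lit 306528, nat_lit 306529, nat_lit 306626, nat_lit 306627, nat_lit 306720, nat_lit 306721, nat_lit 306782, nat_lit 306783, nat_lit 306794, nat_lit 306845, nat_lit 306848, nat_lit 306912, nat_lit 306914, nat_lit 306917]

/-- certificate -/
noncomputable def zfT : Tr :=
  (.node (nat_lit 131300) (.node (nat_lit 114901) (.node (nat_lit 97034) (.node (nat_lit 53422) (.node (nat_lit 2937) (.leaf (nat_lit 2936) (nat_lit 0)) (.leaf (nat_lit 0) (nat_lit 0)))
(.node (nat_lit 1) (.leaf (nat_lit 0) (nat_lit 0)) (.leaf (nat_lit 0) (nat_lit 0))))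
(.node (nat_lit 17850) (.node (nat_lit 1) (.leaf (nat_lit 0) (nat_lit 0)) (.leaf (nat_lit 0) (nat_lit 0)))
(.node (nat_lit 1) (.leaf (nat_lit 0) (nat_lit 0)) (.node (nat_lit 15) (.leaf (nat_lit 0) (nat_lit 0)) (.leaf (nat_lit 0) (nat_lit 0))))))
(.node (nat_lit 32) (.node (nat_lit 16) (.node (nat_lit 15) (.leaf (nat_lit 0) (nat_lit 0)) (.leaf (nat_lit 0) (nat_lit 0)))
(.node (nat_lit 15) (.leaf (nat_lit 0) (nat_lit 0)) (.leaf (nat_lit 0) (nat_lit 0))))
(.node (nat_lit 16336) (.node (nat_lit 16335) (.leaf (nat_lit 0) (nat_lit 0)) (.leaf (nat_lit 0) (nat_lit 0)))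
(.node (nat_lit 15) (.leaf (nat_lit 0) (nat_lit 0)) (.node (nat_lit 1) (.leaf (nat_lit 0) (nat_lit 0)) (.leaf (nat_lit 0) (nat_lit 0)))))))
(.node (nat_lit 84629) (.node (nat_lit 468) (.node (nat_lit 16) (.node (nat_lit 1) (.leaf (nat_lit 0) (nat_lit 0)) (.leaf (nat_lit 0) (nat_lit 0)))
(.node (nat_lit 1) (.leaf (nat_lit 0) (nat_lit 0)) (.leaf (nat_lit 0) (nat_lit 0))))
(.node (nat_lit 69110) (.node (nat_lit 1) (.leaf (nat_lit 0) (nat_lit 0)) (.leaf (nat_lit 0) (nat_lit 0)))
(.node (nat_lit 1) (.leaf (nat_lit 0) (nat_lit 0)) (.node (nat_lit 15049) (.leaf (nat_lit 0) (nat_lit 0)) (.leaf (nat_lit 0) (nat_lit 0))))))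
(.node (nat_lit 14144) (.node (nat_lit 12178) (.node (nat_lit 12177) (.leaf (nat_lit 0) (nat_lit 0)) (.leaf (nat_lit 0) (nat_lit 0)))
(.node (nat_lit 1965) (.leaf (nat_lit 0) (nat_lit 0)) (.leaf (nat_lit 0) (nat_lit 0))))
(.node (nat_lit 6992) (.node (nat_lit 6991) (.leaf (nat_lit 0) (nat_lit 0)) (.leaf (nat_lit 0) (nat_lit 0)))
(.node (nat_lit 49151) (.leaf (nat_lit 0) (nat_lit 0)) (.node (nat_lit 1) (.leaf (nat_lit 0) (nat_lit 0)) (.leaf (nat_lit 0) (nat_lit 0))))))))

theorem zf_ok : fixOK ps24 (nat_lit 0x30508040805040304050804) (fixAcc 306936 W24 [nat_lit 0x30508040805040304050804] 0 14 (fullM 306936)) zfF zfT = true := by decide +kernel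

theorem zf (M : FM D 306936 W24 g pt ps24 12 (nth 0 gp24)) :
    semG 306936 pt (maskL zfF) = {y | y ∈ D ∧ Commute (ev g (nat_lit 0x30508040805040304050804)) y} :=
  M.semG_fix ((FA.zero 306936 pt _).acc M.tm 14) zf_ok

theorem zf_pop : Nat.beq (pop 306936 (maskL zfF)) 504 = true := by decide +kernel

end CfsgLib.Fi24T
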