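import Mathlib
import Cfsg.Agent.Lib.FiTool.Chain
import Cfsg.Agent.Lib.Fi24T.Vec

/-!
# FI24/AMAL: facts on the stabilizer of `vec 85` in `G1`
-/

set_option autoImplicit false

namespace CfsgLib.Fi24T.Am

open CfsgLib.Comput CfsgLib.FiTool CfsgLib.ExtraTwo Subgroup MulAction

theorem walk_le {G Ω : Type*} [Group G] [MulAction G Ω] {g : ℕ → G} {n : ℕ} {pt : ℕ → Ω} {ps : ℕ → ℕ → ℕ}
    (P : PM g n pt ps) (hn : n < 16777215) {K : Subgroup G} [Finite K] (hK : ∀ m, g m ∈ K) (w : ℕ) {a q : ℕ}
    (ha : a < n) (h : Nat.ble q (pop n (walkM ps w a)) = true) : q ≤ (orbit K (pt a)).ncard := by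
  refine (Nat.le_of_ble_eq_true h).trans ?_
  rw [← ncard_sem_of_inj P.inj hn]
  refine Set.ncard_le_ncard ?_ (Set.finite_range _)
  rintro _ ⟨i, -, hi, rfl⟩
  exact (walkM_sound (P := fun i => i < n ∧ pt i ∈ orbit K (pt a)) (fun m q hq => ⟨(P.step m q hq.1).1, by
    rw [← (P.step m q hq.1).2]
    obtain ⟨k, hk⟩ := hq.2
    exact ⟨⟨g m, hK m⟩ * k, by rw [← hk]; exact mul_smul _ _ _⟩⟩) w ⟨ha, mem_orbit_self _⟩ i hi).2

instance : Finite GL0 := Finite.of_injective (fun g : GL0 => (g : V0 → V0)) DFunLike.coe_injective

/-- the stabilizer of the vector `s` -/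
noncomputable def S : Subgroup GL0 := G1 ⊓ stabilizer GL0 (vec 85)

/-- generators of `S`: `mat 5` and elements of order 5 and 3 -/
def us : List ℕ := [0x6, 0x40302020502, 0x40303030203030404]

noncomputable abbrev sg : ℕ → GL0 := lw mat us

noncomputable abbrev tabS : ℕ → ℕ → ℕ := stepW tabV us

theorem pmS : PM sg 4096 vec tabS := pmV.words us

theorem sg_mem (m : ℕ) : sg m ∈ S := by
  have : allL (fun u => Nat.beq (act tabV u 85) 85) us = true := by decide +kernel
  refine ⟨ev_mem_of_all mat_mem_G1 _, ?_⟩
  rcases nth_mem_or 0 us m with h | h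
  · exact pmV.smul_eq (by norm_num) (allL_sound this _ h)
  · change ev mat (nth 0 us m) ∈ _
    rw [h, ev_zero]; exact one_mem _

theorem sg_zero : sg 0 = mat 5 := ev_letter mat (m := 5) (by norm_num)

theorem sg_pow : sg 1 ^ 5 = 1 ∧ sg 2 ^ 3 = 1 := by
  have h := pmS.allHold (K := ⊤) (fun _ => mem_top _) baseV
    (l := [(List.replicate 5 2, []), (List.replicate 3 3, [])]) (by decide +kernel)
  have h1 := h _ List.mem_cons_self
  have h2 := h _ (List.mem_cons_of_mem _ List.mem_cons_self)
  simp only [Eqn.Holds, evL_replicate, evL_nil] at h1 h2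
  exact ⟨ev_letter sg (m := 1) (by norm_num) ▸ h1, ev_letter sg (m := 2) (by norm_num) ▸ h2⟩

def w1701 : ℕ := 0x501000503020202020003000401030502010202020302000402010002030003020201020205000202010200050204010002020503030003020104000204010100020304040500000105020503020101030105050203040204020501000002020000020301050502030301030301020401000305040400000205000401010402000005020100010203020301000202000004020004030503040002020100030004010002020401040500030502040303010103030004050302040000040201040405040302050004050205030302050000040100000401050500020105000003050402050201020305040205030005050000030001000002030501010403020002020001000201030100050402050300010501000205000303040502030302020504020000050100040403020003020400030400010105030305020000040005030105000003050002050205020200040203000503030205000102040401040200010503010302050300040102000104050201020302000303050402000102020501010202000301040001050303000200010205040301010002030504030100010502020203020303020405030403000305010500020002000205010005010203010304000203010302030403020201010402040302030400000200020403050101020301030204050001000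200030502010001040000050303050101020504030500020300040200050105020102050405030402010004050403040200040301010000040103030500000502010005040502030301040502050300050400000503010200000402010300000401020302000101040000040202010205010403020502040002050200020101040201040500050405030502020502050205030501050304020403040302040205000305040000050205040002010300020102040103020501050305040503040201030302050402010201000101020201000003010104050303010303020503000100050205030101000401000304050304020400000201030204030201050403050103000202000202000005040503050202040504000100030301010502020201040301020402050004010500000104050202010403050302040504000501020204010003020102020303050004050203000401030304050200050305000005010403010205020404000104000003040303020305020300050001050202030502040200010502000302000002010102040202010302040300010502000202040003040305000205010402030504010500050201020405000305030302010200030302030301010205040204020204020000050303000500000502020302050305000203010500040305030201020205030001020100020300010502000403020303050402010501050403020303000400050002040004000204020200050002000302020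004020502020002050200000403020000030504050200030500000304000003000402030002040305040002040105020501000005020402050203030401010303050003010403030000030302010303000204020200030001030201020204020102020400030104010503000105010204000502030400030201000200010504030100010203020103000203010005030503010100040301000301020504050303010000010401020004000500020205000203030402030205040102050405000101000104050302020400000204010000030305030205040204050303020101040200020304020305040500000501040100030402000303040202040303050304000303040004000501000200040000010104050204030201050102010105030004030300010501050305000305040005020005020103000202010402010501050003020500010103050401050305040102030202020204020204020500050402030205000203010504030105030302000005030400030504020203020301000005010301030402030502020205000502030405030103050300030305040002000304000101040301020500010000050105000501020205030301040201000200020303000301010302010301040304050403020003000102030004020004050204010300030005040002010002010105040502010102020103040000040501010400040504030105030004030401030301050305030501020104010203020305040103030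00205000205020002010204020101040303010405010302000200040201020304030500040302030401050405030305040101030001040504020301030402020402030003000502030400040500030200040101020203010300050200050402030201030100030000040302040100030201010003030502020202010100000402020203050005040001050105000300030205000204000405040000030501020301020104050104010102030502020204030304000300020500050405030300050304050203030201000004010005010402040100050203010102010102010004000001050002040302020501020500030300040105040205020103010202010504010402050201020402000304010402020302040000010103020203020005020102050201020300010301030205000100030400010500010001020504010400010104000401020004020203000002000502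

theorem card_S_le (h : Nat.card G1 = 19595520) : Nat.card S ≤ 11520 := by
  have := mul_card_stab_le (walk_le pmV (by norm_num) mat_mem_G1 w1701 (a := 85) (q := 1701) (by norm_num)
    (by decide +kernel))
  rw [h] at this
  change 1701 * Nat.card S ≤ _ at this
  omega

theorem le_card {K : Subgroup GL0} (hK : ∀ m, sg m ∈ K) : 11520 ≤ Nat.card K := by
  have h1 := mul_card_stab_le (walk_le pmS (by norm_num) hK 0x20201020201010100020201010100010102020102000202010000020001000100010002020102010100000102020100010201020100010001000201000001010200010100020201020001000001020201000102000002010002000202010102000201010201020201010100020200000101010001020201010002000100010102010001020002010202010000010200010001010202020102000202000101010100020102010100020201000202000100010202010102020102020001000101000102020100010201000201020100020201000200010201020101000102020002020100020201010102020101 (a := 6) (q := 192) (by norm_num)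
    (by decide +kernel))
  have h2 := mul_card_stab_le (walk_le (pmS.words [0x3, 0x2030202]) (by norm_num) (K := K ⊓ stabilizer GL0 (vec 6))
    (fun m => ev_nth_mem (g := sg) (fun u hu => mem_inf.2 ⟨ev_mem_of_all hK u, pmS.smul_eq (by norm_num) (allL_sound
      (show allL (fun u => Nat.beq (act tabS u 6) 6) [0x3, 0x2030202] = true by decide +kernel) u hu)⟩) m)
    0x1000001000000010001000001010101000101010100010001010000010100010100000100000100010000010100010100010101000100000101000101010100000101010000 (a := 256) (q := 60) (by norm_num) (by decide +kernel))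
  have h3 : 0 < Nat.card (K ⊓ stabilizer GL0 (vec 6) ⊓ stabilizer GL0 (vec 256) : Subgroup GL0) := Nat.card_pos
  omega

theorem S_le (h : Nat.card G1 = 19595520) {K : Subgroup GL0} (h0 : sg 0 ∈ K) (h1 : sg 1 ∈ K) (h2 : sg 2 ∈ K) :
    S ≤ K := by
  have hK : ∀ m, sg m ∈ S ⊓ K := fun m => ⟨sg_mem m, by
    rcases m with _ | _ | _ | m
    exacts [h0, h1, h2, by
      change ev mat (nth 0 us (m + 3)) ∈ _
      rw [nth_of_le _ _ (by simp [us]), ev_zero]; exact one_mem _]⟩
  exact (eq_of_le_of_card_ge inf_le_left ((card_S_le h).trans (le_card hK))).ge.trans inf_le_right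

theorem relIndex_S (h : Nat.card G1 = 19595520) : (stabilizer GL0 (vec 85)).relIndex G1 = 1701 := by
  have h1 : Nat.card S = 11520 := (card_S_le h).antisymm (le_card sg_mem)
  have h2 := (((stabilizer GL0 (vec 85)).subgroupOf G1).card_mul_index)
  rw [← inf_subgroupOf_left, Nat.card_congr (subgroupOfEquivOfLe inf_le_left).toEquiv, h, inf_subgroupOf_left] at h2
  change Nat.card S * _ = _ at h2
  rw [h1] at h2
  rw [relIndex]; omega

theorem mat_five_not_mem : mat 5 ∉ G2 := fun h => by
  have e := pmV.allHold (K := ⊤) (fun _ => mem_top _) baseV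
    (l := [([1, 1], [1, 1]), ([1, 2], [2, 1]), ([1, 3], [3, 1]), ([1, 4], [4, 1]), ([1, 5], [5, 1])]) (by decide +kernel)
  have c : G2 ≤ centralizer {mat 0} := (closure_le _).2 (by
    have k : ∀ m < 5, mat m ∈ centralizer {mat 0} := fun m hm => by
      have := e ([1, m + 1], [m + 1, 1]) (by interval_cases m <;> simp)
      rw [Eqn.Holds, evL_two, evL_two, ev_letter mat (m := m) (by omega), ev_letter mat (m := 0) (by omega)] at this
      exact mem_centralizer_singleton_iff.2 this.symm
    rintro _ (rfl | rfl | rfl | rfl | rfl) <;> exact k _ (by norm_num))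
  have := pmV.evL_ne (l := [6, 1]) (l' := [1, 6]) (a := 1) (by norm_num) (by decide +kernel)
  rw [evL_two, evL_two, ev_letter mat (m := 5) (by omega), ev_letter mat (m := 0) (by omega)] at this
  exact this (mem_centralizer_singleton_iff.1 (c h))

theorem exists_omega (v : V0) : ∃ u, mat 0 u + u = v := by
  obtain ⟨n, hn, rfl⟩ := exists_vec v
  have : allI (fun n => Nat.beq (Nat.xor (tabV 0 (tabV 0 n)) (tabV 0 n)) n) 0 4096 = true := by decide +kernel
  refine ⟨vec (tabV 0 n), ?_⟩
  rw [mat_vec, ← vec_xor, Nat.eq_of_beq_eq_true (allI_zero this n hn)]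

/-- the codes of the invariant maximal totally singular subspace -/
def eL : List ℕ := [0, 5, 17, 20, 65, 68, 80, 85, 170, 175, 187, 190, 235, 238, 250, 255, 1280, 1285, 1297, 1300, 1345, 1348, 1360, 1365, 1450, 1455, 1467, 1470, 1515, 1518, 1530, 1535, 2816, 2821, 2833, 2836, 2881, 2884, 2896, 2901, 2986, 2991, 3003, 3006, 3051, 3054, 3066, 3071, 3584, 3589, 3601, 3604, 3649, 3652, 3664, 3669, 3754, 3759, 3771, 3774, 3819, 3822, 3834, 3839]

def Et : Set V0 := sem 4096 vec (maskL eL)

theorem mem_Et {v : V0} : v ∈ Et ↔ ∃ i ∈ eL, i < 4096 ∧ vec i = v := by rw [Et, sem_maskL]; rfl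

theorem ncard_Et : Et.ncard = 64 := by
  rw [Et, ncard_sem_of_inj pmV.inj (by norm_num)]; decide +kernel

theorem bb_eq {a b : ℕ} (ha : a < 4096) (hb : b < 4096) :
    QuadraticMap.polar q0 (vec a) (vec b) = 0 ↔ Nat.beq (Nat.mod (bb a b) 2) 0 = true := by
  rw [polar_vec ha hb, ZMod.natCast_eq_zero_iff, Nat.beq_eq, Nat.dvd_iff_mod_eq_zero]; rfl

theorem polar_Et {v w : V0} (hv : v ∈ Et) (hw : w ∈ Et) : QuadraticMap.polar q0 v w = 0 := by
  obtain ⟨i, hi, hi', rfl⟩ := mem_Et.1 hv
  obtain ⟨j, hj, hj', rfl⟩ := mem_Et.1 hw
  have : allL (fun a => allL (fun b => Nat.beq (Nat.mod (bb a b) 2) 0) eL) eL = true := by decide +kernel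
  exact (bb_eq hi' hj').2 (allL_sound (allL_sound this i hi) j hj)

theorem mem_Et_of {v : V0} (h1 : q0 v = 0) (h2 : QuadraticMap.polar q0 v (vec 85) = 0)
    (h3 : ∀ g ∈ S, QuadraticMap.polar q0 v (g v) = 0) : v ∈ Et := by
  obtain ⟨n, hn, rfl⟩ := exists_vec v
  have : force (maskL eL) (fun M => allI (fun n => bor (tb M n) (bor (Nat.beq (qb n) 1)
      (bor (bnot (Nat.beq (Nat.mod (bb n 85) 2) 0))
        (anyL (fun w => bnot (Nat.beq (Nat.mod (bb n (act tabS w n)) 2) 0)) [0x1, 0x10203030202, 0x103, 0x301])))) 0 4096) = true := by
    decide +kernel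
  rw [force_eq] at this
  rcases bor_eq_true.1 (allI_zero this n hn) with h | h
  · exact ⟨n, hn, tb_eq _ _ ▸ h, rfl⟩
  rcases bor_eq_true.1 h with h | h
  · rw [q0_vec hn, Nat.eq_of_beq_eq_true h] at h1; exact absurd h1 (by decide)
  rcases bor_eq_true.1 h with h | h
  · rw [bnot_eq_true, (bb_eq hn (by norm_num)).1 h2] at h; exact absurd h (by decide)
  · obtain ⟨w, -, h⟩ := anyL_sound h
    have := h3 _ (ev_mem_of_all sg_mem w)
    rw [show (ev sg w) (vec n) = _ from pmS.ev_smul w hn] at this
    rw [bnot_eq_true, (bb_eq hn (pmS.act_lt w hn)).1 this] at h; exact absurd h (by decide)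

theorem perp_perp {u : V0} (h : ∀ v, QuadraticMap.polar q0 v (vec 85) = 0 → QuadraticMap.polar q0 u v = 0) :
    u = 0 ∨ u = vec 85 := by
  obtain ⟨n, hn, rfl⟩ := exists_vec u
  have h1 : allI (fun n => bor (Nat.beq n 0) (bor (Nat.beq n 85)
      (anyL (fun a => bnot (Nat.beq (Nat.mod (bb n a) 2) 0)) [1, 4, 10, 16, 34, 64, 130, 256, 512, 1024, 2048]))) 0 4096 = true := by decide +kernel
  have h2 : allL (fun a => band (blt a 4096) (Nat.beq (Nat.mod (bb a 85) 2) 0)) [1, 4, 10, 16, 34, 64, 130, 256, 512, 1024, 2048] = true := by
    decide +kernel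
  rcases bor_eq_true.1 (allI_zero h1 n hn) with e | e
  · exact Or.inl (Nat.eq_of_beq_eq_true e ▸ vec_zero)
  rcases bor_eq_true.1 e with e | e
  · exact Or.inr (Nat.eq_of_beq_eq_true e ▸ rfl)
  obtain ⟨a, ha, e⟩ := anyL_sound e
  obtain ⟨h3, h4⟩ := band_eq_true.1 (allL_sound h2 a ha)
  rw [bnot_eq_true, (bb_eq hn (lt_of_blt h3)).1 (h _ ((bb_eq (lt_of_blt h3) (by norm_num)).2 h4))] at e
  exact absurd e (by decide)

/-- the elements fixing `s` and the coset of `e` -/
def St (e : V0) : Subgroup GL0 where
  carrier := {g | g (vec 85) = vec 85 ∧ (g e = e ∨ g e = e + vec 85)}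
  one_mem' := ⟨rfl, Or.inl rfl⟩
  mul_mem' := by
    rintro g h ⟨g1, g2⟩ ⟨h1, h2⟩
    refine ⟨by rw [LinearEquiv.mul_apply, h1, g1], ?_⟩
    rcases g2 with g2 | g2 <;> rcases h2 with h2 | h2 <;>
      simp [LinearEquiv.mul_apply, h2, g1, g2, add_assoc, add_self_zmod2]
  inv_mem' := by
    rintro g ⟨g1, g2⟩
    refine ⟨(LinearEquiv.symm_apply_eq g).2 g1.symm, g2.imp (fun g2 => (LinearEquiv.symm_apply_eq g).2 g2.symm)
      fun g2 => (LinearEquiv.symm_apply_eq g).2 ?_⟩
    rw [map_add, g1, g2, add_assoc, add_self_zmod2, add_zero]

theorem mul_card_St_le {L : Subgroup GL0} {e : V0} {q : ℕ} (h : q ≤ (orbit L e).ncard) :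
    q * Nat.card (L ⊓ St e : Subgroup GL0) ≤ 2 * Nat.card L := by
  have h1 := mul_card_stab_le h
  have h2 := card_eq_ncard_orbit_mul (L ⊓ St e) e
  have h3 : (orbit (L ⊓ St e : Subgroup GL0) e).ncard ≤ 2 :=
    (Set.ncard_le_ncard (t := {e, e + vec 85}) (by rintro _ ⟨g, rfl⟩; exact g.2.2.2)).trans 
      ((Set.ncard_insert_le _ _).trans (by simp))
  have h4 : Nat.card (L ⊓ St e ⊓ stabilizer GL0 e : Subgroup GL0) ≤ Nat.card (L ⊓ stabilizer GL0 e : Subgroup GL0) :=
    card_le_of_le (inf_le_inf_right _ inf_le_left)
  calc _ ≤ q * (2 * Nat.card (L ⊓ stabilizer GL0 e : Subgroup GL0)) := by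
        rw [h2]; exact Nat.mul_le_mul_left _ (Nat.mul_le_mul h3 h4)
    _ ≤ _ := by rw [Nat.mul_left_comm]; exact Nat.mul_le_mul_left _ h1

noncomputable def stOK (e w : ℕ) : Bool := force (act tabS w e) fun x => bor (Nat.beq x e) (Nat.beq x (Nat.xor e 85))

theorem mem_St {e w : ℕ} (he : e < 4096) (h : stOK e w = true) : ev sg w ∈ St (vec e) := by
  rw [stOK, force_eq, bor_eq_true] at h
  exact ⟨(ev_mem_of_all sg_mem w).2, h.imp (pmS.smul_eq he) fun h => (pmS.smul_eq he h).trans (vec_xor _ _)⟩

/-- `O₂(S)` -/
noncomputable def Kb : Subgroup GL0 := S ⊓ St (vec 5) ⊓ St (vec 17) ⊓ St (vec 1280)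

theorem card_Kb (h : Nat.card G1 = 19595520) : Nat.card Kb ≤ 32 := by
  have h0 := card_S_le h
  have h1 := mul_card_St_le (walk_le pmS (by norm_num) sg_mem 0x10202010102000002010101010200010101010002020001000100010102010101 (a := 5) (q := 30) (by norm_num)
    (by decide +kernel))
  have h2 := mul_card_St_le (walk_le (pmS.words [0x1, 0x3, 0x20202020102, 0x20301020302, 0x201020102010202]) (by norm_num) (K := S ⊓ St (vec 5))
    (fun m => ev_nth_mem (g := sg) (fun u hu => mem_inf.2 ⟨ev_mem_of_all sg_mem u, mem_St (by norm_num) (allL_sound
      (show allL (stOK 5) [0x1, 0x3, 0x20202020102, 0x20301020302, 0x201020102010202] = true by decide +kernel) u hu)⟩) m)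
    0x40004040001000404010400040104 (a := 17) (q := 16) (by norm_num) (by decide +kernel))
  have h3 := mul_card_St_le (walk_le (pmS.words [0x3, 0x102030102030102, 0x201020301020202, 0x202030201030202]) (by norm_num) (K := S ⊓ St (vec 5) ⊓ St (vec 17))
    (fun m => ev_nth_mem (g := sg) (fun u hu => mem_inf.2 ⟨mem_inf.2 ⟨ev_mem_of_all sg_mem u, mem_St (by norm_num) (allL_sound
      (show allL (stOK 5) [0x3, 0x102030102030102, 0x201020301020202, 0x202030201030202] = true by decide +kernel) u hu)⟩, mem_St (by norm_num) (allL_sound
      (show allL (stOK 17) [0x3, 0x102030102030102, 0x201020301020202, 0x202030201030202] = true by decide +kernel) u hu)⟩) m)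
    0x101000203 (a := 1280) (q := 6) (by norm_num) (by decide +kernel))
  rw [Kb]; omega

theorem mem_Kb {g : GL0} (hg : g ∈ S) (iso : ∀ v w, QuadraticMap.polar q0 (g v) (g w) = QuadraticMap.polar q0 v w)
    (h : ∀ v, QuadraticMap.polar q0 v (vec 85) = 0 → g⁻¹ v + v ∈ Et) : g ∈ Kb := by
  have k : ∀ e ∈ Et, g ∈ St e := fun e he => ⟨hg.2, by
    rcases perp_perp (u := g e + e) (fun v hv => by
      have := polar_Et he (h v hv)
      rwa [QuadraticMap.polar_add_right, ← iso e, show g (g⁻¹ v) = v from g.apply_symm_apply v,
        ← QuadraticMap.polar_add_left] at this) with h | h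
    · exact Or.inl (add_eq_zero_zmod2.1 h)
    · exact Or.inr (by rw [← h, add_comm (g e), ← add_assoc, add_self_zmod2, zero_add])⟩
  exact ⟨⟨⟨hg, k _ (mem_Et.2 ⟨_, by decide, by norm_num, rfl⟩)⟩, k _ (mem_Et.2 ⟨_, by decide, by norm_num, rfl⟩)⟩,
    k _ (mem_Et.2 ⟨_, by decide, by norm_num, rfl⟩)⟩

end CfsgLib.Fi24T.Am
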